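import Groth.Agent.Deform.K185.FlatLift
import Groth.Prelude.Def_ArtFun4

/-!
# Deformations over Artinian rings and flat lifts
-/

set_option autoImplicit false
universe u
open CategoryTheory CategoryTheory.Limits AlgebraicGeometry TopologicalSpace
open K185.FlatLift ArtFun ArtFun.Art

namespace K185.DefLift

section

variable {Λ : Type u} {k : Type u} [CommRing Λ] [Field k] [Algebra Λ k]

theorem isNilpotent_maximalIdeal (A : Art Λ k) : IsNilpotent (IsLocalRing.maximalIdeal A) :=
  (isArtinianRing_iff_isNilpotent_maximalIdeal A).mp inferInstance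

theorem isNilpotent_ker_res (A : Art Λ k) : IsNilpotent (RingHom.ker A.res.toRingHom) := by
  obtain ⟨n, hn⟩ := isNilpotent_maximalIdeal A
  refine ⟨n, ?_⟩
  have h1 : RingHom.ker A.res.toRingHom = IsLocalRing.maximalIdeal A := by
    ext a
    exact (A.mem_maximalIdeal_iff a).symm
  rw [h1, hn]

theorem isNilpotent_ker {B A : Art Λ k} (μ : B ⟶ A) :
    IsNilpotent (RingHom.ker μ.toAlgHom.toRingHom) := by
  obtain ⟨n, hn⟩ := isNilpotent_maximalIdeal B
  refine ⟨n, le_bot_iff.mp ((Ideal.pow_right_mono ?_ n).trans hn.le)⟩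
  intro b hb
  rw [B.mem_maximalIdeal_iff, ← Art.res_app μ b]
  exact (congrArg A.res (show μ b = 0 from hb)).trans (map_zero _)

theorem isFiniteOrderThickening_specRes (A : Art Λ k) :
    MoreMor.IsFiniteOrderThickening (specRes A) :=
  isFiniteOrderThickening_of_surjective _ A.res_surjective (isNilpotent_ker_res A)

theorem isFiniteOrderThickening_specMap {B A : Art Λ k} (μ : B ⟶ A) (hμ : Function.Surjective μ) :
    MoreMor.IsFiniteOrderThickening (specMap μ) :=
  isFiniteOrderThickening_of_surjective _ hμ (isNilpotent_ker μ)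

/-- Morphisms from spectra of fields to `Spec A` factor through the closed point. -/
theorem exists_factor (A : Art Λ k) (K : CommRingCat.{u}) [IsReduced K] (g : Spec K ⟶ spec A) :
    ∃ a : Spec K ⟶ specPt k, a ≫ specRes A = g := by
  obtain ⟨φ, rfl⟩ := Spec.map_surjective g
  have h1 : RingHom.ker A.res.toRingHom ≤ RingHom.ker φ.hom := by
    intro a ha
    obtain ⟨n, hn⟩ := isNilpotent_ker_res A
    have h2 : a ^ n = 0 := by
      have := Ideal.pow_mem_pow ha n
      rwa [hn] at this
    have h3 : (φ.hom a) ^ n = 0 := by rw [← map_pow, h2, map_zero]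
    exact IsReduced.eq_zero _ ⟨n, h3⟩
  refine ⟨Spec.map (CommRingCat.ofHom (RingHom.liftOfSurjective A.res.toRingHom A.res_surjective
    ⟨φ.hom, h1⟩)), ?_⟩
  rw [← Spec.map_comp]
  congr 1
  ext a
  exact RingHom.liftOfRightInverse_comp_apply A.res.toRingHom _
    (Function.rightInverse_surjInv A.res_surjective) ⟨φ.hom, h1⟩ a

variable {X : Scheme.{u}} {x : X ⟶ specPt k}

theorem locallyOfFiniteType {A : Art Λ k} (ξ : DefSch X x A) [LocallyOfFiniteType x] :
    LocallyOfFiniteType ξ.f :=
  (Groth.Agent.S1309.result ξ.i (specRes A) x ξ.f (isFiniteOrderThickening_specRes A)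
    ξ.isPullback).mp inferInstance

theorem locallyOfFinitePresentation {A : Art Λ k} (ξ : DefSch X x A) [LocallyOfFiniteType x] :
    LocallyOfFinitePresentation ξ.f := by
  have := locallyOfFiniteType ξ
  infer_instance

theorem isClosedImmersion_i {A : Art Λ k} (ξ : DefSch X x A) : IsClosedImmersion ξ.i := by
  have := (isFiniteOrderThickening_specRes A).1.1
  exact MorphismProperty.of_isPullback ξ.isPullback.flip inferInstance

theorem surjective_i {A : Art Λ k} (ξ : DefSch X x A) : Surjective ξ.i := by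
  have := (isFiniteOrderThickening_specRes A).1.2
  exact MorphismProperty.of_isPullback ξ.isPullback.flip inferInstance

theorem isHomeomorph_i {A : Art Λ k} (ξ : DefSch X x A) : IsHomeomorph ξ.i := by
  have h1 := isClosedImmersion_i ξ
  have h2 := surjective_i ξ
  exact isHomeomorph_iff_isEmbedding_surjective.mpr ⟨ξ.i.isClosedEmbedding.isEmbedding, ξ.i.surjective⟩

theorem isFLift {A : Art Λ k} (ξ : DefSch X x A) [LocallyOfFiniteType x] :
    IsFLift (specRes A) x ξ.i ξ.f :=
  ⟨ξ.flat, locallyOfFinitePresentation ξ, ξ.isPullback⟩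

/-- Deformations of syntomic schemes are syntomic. -/
theorem isSyntomicMor {A : Art Λ k} (ξ : DefSch X x A) (hx : Synt.IsSyntomicMor x) :
    Synt.IsSyntomicMor ξ.f := by
  have := (K563.SchDict.flat_and_lfp_of_isSyntomicMor x hx).2
  have := locallyOfFinitePresentation ξ
  refine K563.SchDict2.isSyntomicMor_of_fibres ξ.f fun s => ?_
  obtain ⟨a, ha⟩ := exists_factor A _ ((spec A).fromSpecResidueField s)
  have h1 : IsPullback (pullback.fst ξ.f ((spec A).fromSpecResidueField s))
      (pullback.snd ξ.f ((spec A).fromSpecResidueField s)) ξ.f (a ≫ specRes A) := by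
    rw [ha]
    exact IsPullback.of_hasPullback _ _
  have h2 : pullback.fst ξ.f ((spec A).fromSpecResidueField s) ≫ ξ.f =
      (pullback.snd ξ.f ((spec A).fromSpecResidueField s) ≫ a) ≫ specRes A := by
    rw [h1.w, Category.assoc]
  have h3 : IsPullback (ξ.isPullback.lift _ _ h2) (pullback.snd ξ.f ((spec A).fromSpecResidueField s))
      x a := by
    refine IsPullback.of_right (h₁₂ := ξ.i) (h₂₂ := specRes A) ?_ (ξ.isPullback.lift_snd _ _ _)
      ξ.isPullback
    rw [ξ.isPullback.lift_fst]
    exact h1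
  exact K563.SchDict2.isSyntomicMor_of_isPullback h3 hx

/-- Deformations of smooth schemes are smooth. -/
theorem smooth {A : Art Λ k} (ξ : DefSch X x A) [Smooth x] : Smooth ξ.f := by
  have := (isFiniteOrderThickening_specRes A).1.1
  have := (isFiniteOrderThickening_specRes A).1.2
  exact ((isFLift ξ).isLift _).smooth

/-- The smooth locus of a deformation. -/
theorem exists_open_smooth {A : Art Λ k} (ξ : DefSch X x A) [LocallyOfFiniteType x] (U : X.Opens)
    (hU : Smooth (U.ι ≫ x)) : ∃ D : ξ.total.Opens, Smooth (D.ι ≫ ξ.f) ∧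
      (ξ.i '' (U : Set X)) ⊆ D := by
  have := (isFiniteOrderThickening_specRes A).1.1
  have := (isFiniteOrderThickening_specRes A).1.2
  obtain ⟨X', b, j', hb, h1, h2⟩ := (isFLift ξ).open _ U.ι
  have h3 := (h2.isLift _).smooth
  refine ⟨b.opensRange, ?_, ?_⟩
  · have e : b.isoOpensRange.inv ≫ b ≫ ξ.f = b.opensRange.ι ≫ ξ.f := by
      rw [Iso.inv_comp_eq, ← Category.assoc, Scheme.Hom.isoOpensRange_hom_ι]
    rw [← e]
    infer_instance
  · rintro _ ⟨y, hy, rfl⟩
    refine ⟨j' ⟨y, hy⟩, ?_⟩
    have := congr($(h1.w) ⟨y, hy⟩)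
    exact this

/-- Surjectivity of `Def_X(B) → Def_X(A)` from the existence of flat lifts. -/
theorem surjective_map {B A : Art Λ k} (μ : B ⟶ A)
    (h : ∀ ξ : DefSch X x A, HasFLift (specMap μ) ξ.f) :
    Function.Surjective ((defFunctor (Λ := Λ) X x).map μ) := by
  intro q
  induction q using Quotient.inductionOn with
  | h ξ =>
  obtain ⟨Z, j, g, h1, h2, h3⟩ := h ξ
  have h4 : IsPullback (ξ.i ≫ j) x g (specRes B) := by
    rw [← specRes_comp μ]
    exact ξ.isPullback.paste_horiz h3
  let ζ : DefSch X x B := ⟨Z, g, h1, ξ.i ≫ j, h4⟩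
  refine ⟨ζ.cl, ?_⟩
  rw [defFunctor_map_cl]
  refine Quotient.sound ⟨⟨(IsPullback.of_hasPullback ζ.f (specMap μ)).isoIsPullback _ _ h3,
    IsPullback.isoIsPullback_hom_snd _ _ _ _, ?_⟩⟩
  apply h3.hom_ext
  · rw [Category.assoc, IsPullback.isoIsPullback_hom_fst]
    exact DefSch.baseChange_i_fst ζ μ
  · rw [Category.assoc, IsPullback.isoIsPullback_hom_snd]
    exact (DefSch.baseChange_i_f ζ μ).trans ξ.i_f.symm

end

end K185.DefLift
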