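import Groth.Agent.SGA1.K151.NilLift
import Groth.Agent.S1384
import Groth.Agent.S1309
import Groth.Agent.Synt.K562.LiftSyn
import Groth.Agent.Pi1.H421.LiftStep
import Groth.Agent.Synt.K563.SchNhd

/-!
# Flat lifts along a surjective closed immersion: opening, glueing over a smooth overlap, local lifts of
syntomic morphisms
-/

set_option autoImplicit false
set_option linter.style.haveILetI false
universe u

open AlgebraicGeometry CategoryTheory Limits
open Groth.Agent.Smoothlim.Glue2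

namespace K185.FlatLift

/-- `g : X ⟶ Y` (with `j : U ⟶ X`) is a flat lift, locally of finite presentation, of `f : U ⟶ Y₀` along `i`. -/
structure IsFLift {Y₀ Y U X : Scheme.{u}} (i : Y₀ ⟶ Y) (f : U ⟶ Y₀) (j : U ⟶ X) (g : X ⟶ Y) :
    Prop where
  flat : Flat g
  lfp : LocallyOfFinitePresentation g
  isPullback : IsPullback j f g i

/-- `f : U ⟶ Y₀` has a flat lift along `i`. -/
def HasFLift {Y₀ Y U : Scheme.{u}} (i : Y₀ ⟶ Y) (f : U ⟶ Y₀) : Prop :=
  ∃ (X : Scheme.{u}) (j : U ⟶ X) (g : X ⟶ Y), IsFLift i f j g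

variable {Y₀ Y : Scheme.{u}} (i : Y₀ ⟶ Y) [IsClosedImmersion i] [Surjective i]

theorem IsFLift.open {U U' X : Scheme.{u}} {f : U ⟶ Y₀} {j : U ⟶ X} {g : X ⟶ Y}
    (h : IsFLift i f j g) (a : U' ⟶ U) [IsOpenImmersion a] :
    ∃ (X' : Scheme.{u}) (b : X' ⟶ X) (j' : U' ⟶ X'),
      IsOpenImmersion b ∧ IsPullback j' a b j ∧ IsFLift i (a ≫ f) j' (b ≫ g) := by
  have := h.flat
  have := h.lfp
  have hj : IsClosedImmersion j := MorphismProperty.of_isPullback h.isPullback.flip inferInstance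
  have hj2 : Surjective j := MorphismProperty.of_isPullback h.isPullback.flip inferInstance
  obtain ⟨X', b, j', hb, h'⟩ := K151.NilLift.exists_open j a
  exact ⟨X', b, j', hb, h', inferInstance, inferInstance, h'.paste_vert h.isPullback⟩

theorem IsFLift.isLift {U X : Scheme.{u}} {f : U ⟶ Y₀} {j : U ⟶ X} {g : X ⟶ Y}
    (h : IsFLift i f j g) [Smooth f] : K151.NilLift.IsLift i f j g := by
  have := h.flat
  have := h.lfp
  refine ⟨?_, h.isPullback⟩
  have h1 : IsPullback j (f ≫ 𝟙 Y₀) (g ≫ 𝟙 Y) i := by simpa using h.isPullback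
  have h2 : IsPullback i (𝟙 Y₀) (𝟙 Y) i := IsPullback.of_vert_isIso ⟨by simp⟩
  have : Flat (g ≫ 𝟙 Y) := by rw [Category.comp_id]; infer_instance
  have : LocallyOfFinitePresentation (g ≫ 𝟙 Y) := by rw [Category.comp_id]; infer_instance
  exact (Groth.Agent.S1384.result j i i f g (𝟙 Y₀) (𝟙 Y) ⟨inferInstance, inferInstance⟩ h1 h2
    h.isPullback.w).mp inferInstance

theorem HasFLift.glue [IsLocallyNoetherian Y] {U₁₂ U₁ U₂ U : Scheme.{u}} {i₁ : U₁₂ ⟶ U₁} {i₂ : U₁₂ ⟶ U₂}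
    {j₁ : U₁ ⟶ U} {j₂ : U₂ ⟶ U} (hg : IsGlue i₁ i₂ j₁ j₂) [IsAffine U₁₂] (f : U ⟶ Y₀)
    [hsm : Smooth (i₁ ≫ j₁ ≫ f)]
    (h₁ : HasFLift i (j₁ ≫ f)) (h₂ : HasFLift i (j₂ ≫ f)) : HasFLift i f := by
  have hj₁ := hg.open₁
  have hj₂ := hg.open₂
  have hi₁ : IsOpenImmersion i₁ := MorphismProperty.of_isPullback hg.isPullback.flip hj₂
  have hi₂ : IsOpenImmersion i₂ := MorphismProperty.of_isPullback hg.isPullback hj₁
  obtain ⟨X₁, J₁, g₁, H₁⟩ := h₁
  obtain ⟨X₂, J₂, g₂, H₂⟩ := h₂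
  obtain ⟨X₁', b₁, J₁', hb₁, sq₁, H₁'⟩ := H₁.open i i₁
  obtain ⟨X₂', b₂, J₂', hb₂, sq₂, H₂'⟩ := H₂.open i i₂
  have hw : i₂ ≫ j₂ ≫ f = i₁ ≫ j₁ ≫ f := by rw [← reassoc_of% hg.isPullback.w]
  rw [hw] at H₂'
  obtain ⟨φ, hφ, hφ'⟩ := K151.NilLift.exists_iso i (H₁'.isLift i) (H₂'.isLift i)
  obtain ⟨X, k₁, k₂, hX⟩ := exists_isGlue b₁ (φ.hom ≫ b₂)
  have hk₁ := hX.open₁
  have hk₂ := hX.open₂
  have sq₂' : IsPullback J₁' i₂ (φ.hom ≫ b₂) J₂ :=
    sq₂.of_iso (Iso.refl _) φ.symm (Iso.refl _) (Iso.refl _) (by simp [← hφ']) (by simp)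
      (by simp) (by simp)
  obtain ⟨g, hgg₁, hgg₂⟩ := hX.exists_desc g₁ g₂ (by rw [Category.assoc, hφ])
  obtain ⟨J, hJ₁, hJ₂⟩ := hg.exists_desc (J₁ ≫ k₁) (J₂ ≫ k₂) (by
    rw [← reassoc_of% sq₁.w, ← reassoc_of% sq₂'.w]
    congr 1
    exact hX.isPullback.w.trans (Category.assoc _ _ _))
  have s₁ := H₁.flat
  have s₂ := H₂.flat
  have t₁ := H₁.lfp
  have t₂ := H₂.lfp
  have : IsZariskiLocalAtSource @Flat.{u} :=
    HasRingHomProperty.instIsZariskiLocalAtSource (P := @Flat) (Q := RingHom.Flat)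
  have : IsZariskiLocalAtSource @LocallyOfFinitePresentation.{u} :=
    HasRingHomProperty.instIsZariskiLocalAtSource (Q := RingHom.FinitePresentation)
  refine ⟨X, J, g, hX.of_source @Flat g (by rw [hgg₁]; infer_instance)
    (by rw [hgg₂]; infer_instance), hX.of_source @LocallyOfFinitePresentation g (by rw [hgg₁]; infer_instance)
    (by rw [hgg₂]; infer_instance), ?_⟩
  have p₁ : IsPullback j₁ J₁ J k₁ := IsGlue.isPullback_of_isPullback hg hX J₁' J₁ J₂ J sq₂'.flip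
    hJ₁ hJ₂
  have p₂ : IsPullback j₂ J₂ J k₂ := IsGlue.isPullback_of_isPullback hg.swap hX.swap J₁' J₂ J₁ J
    sq₁.flip hJ₂ hJ₁
  refine Scheme.isPullback_of_openCover J f g i hX.openCover fun b => ?_
  cases b
  · change IsPullback (pullback.snd J k₂) (pullback.fst J k₂ ≫ f) (k₂ ≫ g) i
    have := H₂.isPullback
    rw [hgg₂]
    exact this.of_iso p₂.isoPullback (Iso.refl _) (Iso.refl _) (Iso.refl _) (by simp) (by simp)
      (by simp) (by simp)
  · change IsPullback (pullback.snd J k₁) (pullback.fst J k₁ ≫ f) (k₁ ≫ g) i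
    have := H₁.isPullback
    rw [hgg₁]
    exact this.of_iso p₁.isoPullback (Iso.refl _) (Iso.refl _) (Iso.refl _) (by simp) (by simp)
      (by simp) (by simp)

theorem HasFLift.open {U U' : Scheme.{u}} {f : U ⟶ Y₀} (h : HasFLift i f) (a : U' ⟶ U)
    [IsOpenImmersion a] : HasFLift i (a ≫ f) := by
  obtain ⟨X, j, g, h⟩ := h
  obtain ⟨X', b, j', -, -, h'⟩ := h.open i a
  exact ⟨X', j', _, h'⟩

theorem HasFLift.mono {X₀ : Scheme.{u}} {f : X₀ ⟶ Y₀} {U V : X₀.Opens} (hUV : U ≤ V)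
    (h : HasFLift i (V.ι ≫ f)) : HasFLift i (U.ι ≫ f) := by
  have := h.open i (X₀.homOfLE hUV)
  rwa [Scheme.homOfLE_ι_assoc] at this

theorem HasFLift.sup [IsLocallyNoetherian Y] {X₀ : Scheme.{u}} {f : X₀ ⟶ Y₀} {U V : X₀.Opens}
    (hUV : IsAffineOpen (U ⊓ V)) (hsm : Smooth ((U ⊓ V).ι ≫ f))
    (h₁ : HasFLift i (U.ι ≫ f)) (h₂ : HasFLift i (V.ι ≫ f)) : HasFLift i ((U ⊔ V).ι ≫ f) := by
  have hg : IsGlue (X₀.homOfLE (inf_le_left : U ⊓ V ≤ U)) (X₀.homOfLE (inf_le_right : U ⊓ V ≤ V))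
      (X₀.homOfLE (le_sup_left : U ≤ U ⊔ V)) (X₀.homOfLE (le_sup_right : V ≤ U ⊔ V)) := by
    refine ⟨isPullback_opens_inf_le _ _, inferInstance, inferInstance, ?_⟩
    rintro ⟨x, hx⟩
    rcases hx with hx | hx
    · exact Or.inl ⟨⟨x, hx⟩, Subtype.ext (X₀.homOfLE_apply le_sup_left ⟨x, hx⟩)⟩
    · exact Or.inr ⟨⟨x, hx⟩, Subtype.ext (X₀.homOfLE_apply le_sup_right ⟨x, hx⟩)⟩
  have : IsAffine (U ⊓ V : X₀.Opens).toScheme := hUV
  have : Smooth (X₀.homOfLE (inf_le_left : U ⊓ V ≤ U) ≫ X₀.homOfLE (le_sup_left : U ≤ U ⊔ V) ≫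
      (U ⊔ V).ι ≫ f) := by
    rw [Scheme.homOfLE_ι_assoc, Scheme.homOfLE_ι_assoc]
    exact hsm
  refine HasFLift.glue i hg _ ?_ ?_
  · rwa [Scheme.homOfLE_ι_assoc]
  · rwa [Scheme.homOfLE_ι_assoc]

omit [Surjective i] in
theorem hasFLift_of_isEmpty {U : Scheme.{u}} [IsEmpty U] (f : U ⟶ Y₀) : HasFLift i f := by
  refine ⟨U, 𝟙 U, f ≫ i, inferInstance, inferInstance, ⟨⟨by simp⟩, ⟨PullbackCone.IsLimit.mk _ (fun s => s.fst)
    (fun s => by simp) (fun s => ?_) (fun s m h1 h2 => by simpa using h1)⟩⟩⟩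
  rw [← cancel_mono i]
  simpa using s.condition

/-- Quotients are pushouts. -/
theorem isPullback_of_ker {B A C D : CommRingCat.{u}} (π : B ⟶ A) (φ : B ⟶ C) (q : C ⟶ D) (ψ : A ⟶ D)
    (w : φ ≫ q = π ≫ ψ) (hπ : Function.Surjective π.hom) (hq : Function.Surjective q.hom)
    (hker : RingHom.ker q.hom ≤ (RingHom.ker π.hom).map φ.hom) :
    IsPullback (Spec.map q) (Spec.map ψ) (Spec.map φ) (Spec.map π) := by
  have key : ∀ s : PushoutCocone φ π, ∃ d : D ⟶ s.pt, ∀ c, d.hom (q.hom c) = s.inl.hom c := by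
    intro s
    have hle : RingHom.ker q.hom ≤ RingHom.ker s.inl.hom := by
      refine hker.trans ?_
      rw [Ideal.map_le_iff_le_comap]
      intro b hb
      have h1 : s.inl.hom (φ.hom b) = s.inr.hom (π.hom b) := congr($(s.condition).hom b)
      rw [(show π.hom b = 0 from hb), map_zero] at h1
      exact h1
    exact ⟨CommRingCat.ofHom (RingHom.liftOfSurjective q.hom hq ⟨s.inl.hom, hle⟩), fun c =>
      RingHom.liftOfRightInverse_comp_apply q.hom _ (Function.rightInverse_surjInv hq) ⟨s.inl.hom, hle⟩ c⟩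
  choose d hd using key
  refine isPullback_SpecMap_of_isPushout φ π q ψ ⟨⟨w⟩, ⟨PushoutCocone.IsColimit.mk _ d
    (fun s => ?_) (fun s => ?_) (fun s m h1 h2 => ?_)⟩⟩
  · ext c
    exact hd s c
  · ext a
    obtain ⟨b, rfl⟩ := hπ a
    have h0 : ψ.hom (π.hom b) = q.hom (φ.hom b) := congr($(w).hom b).symm
    have h1 : s.inl.hom (φ.hom b) = s.inr.hom (π.hom b) := congr($(s.condition).hom b)
    refine (congrArg (d s).hom h0).trans ?_
    rw [hd s]
    exact h1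
  · ext x
    obtain ⟨c, rfl⟩ := hq x
    have h3 : m.hom (q.hom c) = s.inl.hom c := congr($(h1).hom c)
    rw [hd s]
    exact h3

/-- A relative global complete intersection over `B/I` lifts to a flat finitely presented algebra. -/
theorem hasFLift_relGCI {B : Type u} [CommRing B] (I : Ideal B) (n c : ℕ)
    (F : Fin c → MvPolynomial (Fin n) (B ⧸ I)) (hF : Synt.IsRelGCI (B ⧸ I) n c F) :
    HasFLift (Spec.map (CommRingCat.ofHom (Ideal.Quotient.mk I)))
      (Spec.map (CommRingCat.ofHom (algebraMap (B ⧸ I) (Synt.RelGCIRing (B ⧸ I) n c F)))) := by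
  obtain ⟨F', hF', ⟨e⟩⟩ := K562.LiftSyn.exists_lift_relGCI I n c F hF
  have hsyn := K562.RelReg.isSyntomic_relGCI F' hF'
  set C := Synt.RelGCIRing B (n + 1) (c + 1) F' with hC
  let q : C →+* Synt.RelGCIRing (B ⧸ I) n c F :=
    (e.symm : _ →+* _).comp (Ideal.Quotient.mk (I.map (algebraMap B C)))
  refine ⟨Spec (CommRingCat.of C), Spec.map (CommRingCat.ofHom q),
    Spec.map (CommRingCat.ofHom (algebraMap B C)), ?_, ?_, ?_⟩
  · rw [Flat.SpecMap_iff]
    exact RingHom.flat_algebraMap_iff.mpr hsyn.1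
  · rw [HasRingHomProperty.Spec_iff (P := @LocallyOfFinitePresentation)]
    exact RingHom.finitePresentation_algebraMap.mpr hsyn.2.1
  · refine isPullback_of_ker _ _ _ _ ?_ Ideal.Quotient.mk_surjective ?_ ?_
    · ext b
      refine (e.symm.commutes b).trans ?_
      exact IsScalarTower.algebraMap_apply B (B ⧸ I) _ b
    · exact e.symm.surjective.comp Ideal.Quotient.mk_surjective
    · intro c hc
      change e.symm (Ideal.Quotient.mk _ c) = 0 at hc
      rw [EmbeddingLike.map_eq_zero_iff, Ideal.Quotient.eq_zero_iff_mem] at hc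
      change c ∈ (RingHom.ker (Ideal.Quotient.mk I)).map (algebraMap B C)
      rwa [Ideal.mk_ker]

/-- Surjections with nilpotent kernel give finite order thickenings. -/
theorem isFiniteOrderThickening_of_surjective {B A : Type u} [CommRing B] [CommRing A] (φ : B →+* A)
    (hφ : Function.Surjective φ) (hI : IsNilpotent (RingHom.ker φ)) :
    MoreMor.IsFiniteOrderThickening (Spec.map (CommRingCat.ofHom φ)) := by
  have h1 : IsClosedImmersion (Spec.map (CommRingCat.ofHom φ)) :=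
    IsClosedImmersion.spec_of_surjective _ hφ
  obtain ⟨n, hn⟩ := hI
  refine ⟨⟨h1, ?_⟩, n, ?_⟩
  · refine ⟨fun (x : PrimeSpectrum B) => ?_⟩
    have h3 : x ∈ Set.range (PrimeSpectrum.comap φ) := by
      rw [range_comap_of_surjective _ _ hφ]
      intro a ha
      have h4 : a ^ n = 0 := by
        have : a ^ n ∈ (RingHom.ker φ) ^ n := Ideal.pow_mem_pow ha n
        rwa [hn] at this
      exact x.2.mem_of_pow_mem n (by rw [h4]; exact x.asIdeal.zero_mem)
    exact h3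
  · obtain ⟨e, he⟩ := Groth.Agent.Pi1.H421.LiftStep.ker_appTop φ hφ
    apply Scheme.IdealSheafData.ext_of_isAffine
    rw [Scheme.IdealSheafData.ideal_pow, Pi.pow_apply, Scheme.Hom.ker_apply, he, ← Ideal.map_pow,
      hn]
    exact Ideal.map_bot.trans rfl

/-- Nilpotent quotients give finite order thickenings. -/
theorem isFiniteOrderThickening {B : Type u} [CommRing B] (I : Ideal B) (hI : IsNilpotent I) :
    MoreMor.IsFiniteOrderThickening (Spec.map (CommRingCat.ofHom (Ideal.Quotient.mk I))) :=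
  isFiniteOrderThickening_of_surjective _ Ideal.Quotient.mk_surjective (by rwa [Ideal.mk_ker])

omit [IsClosedImmersion i] [Surjective i] in
/-- Transport along an isomorphism of the closed subscheme. -/
theorem HasFLift.of_iso {Y₁ U : Scheme.{u}} (e : Y₁ ⟶ Y₀) [IsIso e] {f : U ⟶ Y₁}
    (h : HasFLift i (f ≫ e)) : HasFLift (e ≫ i) f := by
  obtain ⟨X, j, g, h1, h2, h3⟩ := h
  refine ⟨X, j, g, h1, h2, ?_⟩
  have h4 : IsPullback (𝟙 U) f (f ≫ e) e := IsPullback.of_horiz_isIso ⟨by simp⟩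
  have h5 := h4.paste_horiz h3
  rwa [Category.id_comp] at h5

/-- Local flat lifts of syntomic morphisms to `Spec (B/I)`. -/
theorem exists_local {B : Type u} [CommRing B] (I : Ideal B) (hI : IsNilpotent I) {X : Scheme.{u}}
    (f : X ⟶ Spec (CommRingCat.of (B ⧸ I))) (h : Synt.IsSyntomicMor f) (x : X) :
    ∃ U : X.Opens, x ∈ U ∧ IsAffineOpen U ∧
      HasFLift (Spec.map (CommRingCat.ofHom (Ideal.Quotient.mk I))) (U.ι ≫ f) := by
  obtain ⟨⟨hc, hs⟩, -⟩ := isFiniteOrderThickening I hI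
  obtain ⟨W, hW, hxW, -⟩ := exists_isAffineOpen_mem_and_subset (X := X) (x := x) (U := ⊤) trivial
  obtain ⟨φ, hφ⟩ := Spec.map_surjective (hW.fromSpec ≫ f)
  have h1 : Synt.IsSyntomicMor (Spec.map φ) := by
    rw [hφ]
    exact K563.SchNhd.isSyntomicMor_openImmersion_comp _ _ h
  obtain ⟨n, c, F, j, hcn, hF, hj, hxj, hw⟩ := K563.SchNhd.exists_relGCI_chart_of_spec' f φ hW.fromSpec
    (𝟙 _) (by rw [Category.comp_id, hφ]) (by
      let _ := φ.hom.toAlgebra
      exact (K563.SchNhd.isSyntomicMor_spec_iff (B ⧸ I) Γ(X, W)).mp h1) (hW.primeIdealOf ⟨x, hxW⟩) x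
    (hW.fromSpec_primeIdealOf ⟨x, hxW⟩)
  rw [Category.comp_id] at hw
  have h2 := hasFLift_relGCI I n c F hF
  refine ⟨j.opensRange, hxj, isAffineOpen_opensRange j, ?_⟩
  have h3 := h2.open _ j.isoOpensRange.inv
  have e : j.isoOpensRange.inv ≫ Spec.map (CommRingCat.ofHom (algebraMap (B ⧸ I)
      (Synt.RelGCIRing (B ⧸ I) n c F))) = j.opensRange.ι ≫ f := by
    rw [Iso.inv_comp_eq, ← hw, ← Category.assoc, Scheme.Hom.isoOpensRange_hom_ι]
  rwa [e] at h3

end K185.FlatLift
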