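import Groth.Agent.CurvesB.DimPts
import Mathlib.Topology.NoetherianSpace
import Mathlib.AlgebraicGeometry.Noetherian

/-!
# Dense opens in Noetherian schemes of dimension at most one
-/

set_option autoImplicit false
universe u
open CategoryTheory CategoryTheory.Limits AlgebraicGeometry TopologicalSpace

namespace K185.CurveTop

/-- A dense open of a Noetherian scheme contains every point with no proper generization. -/
theorem mem_of_dense {X : Scheme.{u}} [IsNoetherian X] (U : X.Opens) (hU : Dense (U : Set X)) (z : X)
    (hz : ringKrullDim (X.presheaf.stalk z) = 0) : z ∈ U := by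
  set Z : Set X := irreducibleComponent z with hZ
  have hZc : Z ∈ irreducibleComponents (X : Type u) := irreducibleComponent_mem_irreducibleComponents z
  obtain ⟨V, hVo, hVne, hVZ⟩ := NoetherianSpace.exists_isOpen_nonempty_subset_irreducibleComponent Z hZc
  obtain ⟨y, hyV, hyU⟩ := hU.inter_open_nonempty V hVo hVne
  obtain ⟨η, hη⟩ := QuasiSober.sober hZc.1 isClosed_irreducibleComponent
  have h1 : η ⤳ z := hη.specializes mem_irreducibleComponent
  have h2 : η = z := by
    rw [ringKrullDim_stalk_eq_coheight] at hz
    norm_cast at hz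
    rw [Order.coheight_eq_zero] at hz
    exact (h1.antisymm (hz (show z ≤ η from h1))).eq
  have h3 : η ⤳ y := hη.specializes (hVZ hyV)
  rw [← h2]
  exact h3.mem_open U.2 hyU

theorem isClosed_singleton {S : Scheme.{u}} [IsNoetherian S]
    (hdim : topologicalKrullDim S ≤ 1)
    (U : S.Opens) (hU : Dense (U : Set S)) (s : S) (hs : s ∉ U) : IsClosed ({s} : Set S) := by
  by_contra h
  exact hs (mem_of_dense U hU s
    (Groth.Agent.CurvesB.DimPts.ringKrullDim_stalk_eq_zero_of_not_isClosed hdim s h))

/-- The complement of a dense open is finite. -/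
theorem finite_compl {S : Scheme.{u}} [IsNoetherian S]
    (hdim : topologicalKrullDim S ≤ 1)
    (U : S.Opens) (hU : Dense (U : Set S)) : Set.Finite (U : Set S)ᶜ := by
  obtain ⟨T, hT1, hT2⟩ := NoetherianSpace.exists_finset_irreducible
    (⟨(U : Set S)ᶜ, U.2.isClosed_compl⟩ : Closeds S)
  have key : ∀ k ∈ T, Set.Finite (k : Set S) := by
    intro k hk
    obtain ⟨η, hη⟩ := QuasiSober.sober (hT1 ⟨k, hk⟩) k.2
    have hle : (k : Set S) ⊆ (U : Set S)ᶜ := by
      have h1 : k ≤ T.sup id := Finset.le_sup (f := id) hk
      rw [← hT2] at h1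
      exact h1
    have h2 : (k : Set S) = {η} := by
      have h3 : closure {η} = (k : Set S) := hη
      rw [← h3, (isClosed_singleton hdim U hU η (hle hη.mem)).closure_eq]
    rw [h2]
    exact Set.finite_singleton η
  have h4 : (U : Set S)ᶜ = ⋃ k ∈ T, (k : Set S) := by
    have h5 := congrArg (fun c : Closeds S => (c : Set S)) hT2
    refine h5.trans ?_
    ext x
    simp
  rw [h4]
  exact T.finite_toSet.biUnion key

/-- Any subset of the complement of a dense open is closed. -/
theorem isClosed_of_subset {S : Scheme.{u}} [IsNoetherian S]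
    (hdim : topologicalKrullDim S ≤ 1)
    (U : S.Opens) (hU : Dense (U : Set S)) (T : Set S) (hT : T ⊆ (U : Set S)ᶜ) : IsClosed T := by
  have h1 : T.Finite := (finite_compl hdim U hU).subset hT
  rw [← Set.biUnion_of_singleton T]
  exact h1.isClosed_biUnion fun s hs => isClosed_singleton hdim U hU s (hT hs)

end K185.CurveTop
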