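import Groth.Agent.Deform.K185.FlatLift
import Groth.Agent.Deform.K185.CurveTop
import Groth.Agent.S1607

/-!
# Syntomic curves, smooth on a dense open, lift along nilpotent thickenings of affine Noetherian bases
-/

set_option autoImplicit false
universe u
open CategoryTheory CategoryTheory.Limits AlgebraicGeometry TopologicalSpace
open K185.FlatLift

namespace K185.CurveLift

/-- Opens of an affine open in a Noetherian scheme of dimension at most one are affine. -/
theorem isAffineOpen_inf {X : Scheme.{u}} [IsNoetherian X] (hdim : topologicalKrullDim X ≤ 1)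
    (U V : X.Opens) (hU : IsAffineOpen U) : IsAffineOpen (U ⊓ V) := by
  have hUa : IsAffine U.toScheme := hU
  have h1 : IsAffineOpen (U.ι ⁻¹ᵁ V) := by
    refine Groth.Agent.S1607.result U.toScheme (fun x => ?_) _ ?_
    · have e := (asIso (U.ι.stalkMap x)).commRingCatIsoToRingEquiv
      have h2 := Groth.Agent.CurvesB.DimPts.ringKrullDim_stalk_le (U.ι x)
      refine ⟨isNoetherianRing_of_ringEquiv _ e, ?_⟩
      rw [← ringKrullDim_eq_of_ringEquiv e]
      exact h2.trans hdim
    · have : NoetherianSpace U.toScheme := by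
        have : IsNoetherian U.toScheme := ⟨⟩
        infer_instance
      exact NoetherianSpace.isCompact _
  have h3 := h1.image_of_isOpenImmersion U.ι
  rwa [Scheme.Hom.image_preimage_eq_opensRange_inf, Scheme.Opens.opensRange_ι] at h3

theorem hasFLift_curve {B : Type u} [CommRing B] [IsNoetherianRing B] (I : Ideal B)
    (hI : IsNilpotent I) {Y : Scheme.{u}} [IsNoetherian Y] (f : Y ⟶ Spec (CommRingCat.of (B ⧸ I)))
    (h : Synt.IsSyntomicMor f) (hdim : topologicalKrullDim Y ≤ 1) (D : Y.Opens)
    (hD : Dense (D : Set Y)) (hsm : Smooth (D.ι ≫ f)) :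
    HasFLift (Spec.map (CommRingCat.ofHom (Ideal.Quotient.mk I))) f := by
  obtain ⟨⟨hc, hs⟩, -⟩ := isFiniteOrderThickening I hI
  choose U hxU hUa hU using exists_local I hI f h
  have key : ∀ t : Finset Y, HasFLift (Spec.map (CommRingCat.ofHom (Ideal.Quotient.mk I)))
      ((⨆ x ∈ t, U x).ι ≫ f) := by
    classical
    intro t
    induction t using Finset.induction_on with
    | empty =>
      have : IsEmpty (⨆ x ∈ (∅ : Finset Y), U x : Y.Opens).toScheme := by
        refine ⟨fun ⟨y, hy⟩ => ?_⟩
        simp at hy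
      exact hasFLift_of_isEmpty _ _
    | insert a t _ ih =>
      set V : Y.Opens := ⨆ x ∈ t, U x with hV
      let T : Set Y := (D : Set Y)ᶜ ∩ (U a : Set Y)
      have hT : IsClosed T := K185.CurveTop.isClosed_of_subset hdim D hD T Set.inter_subset_left
      let C : Y.Opens := ⟨Tᶜ, hT.isOpen_compl⟩
      have h1 : (⨆ x ∈ insert a t, U x) = U a ⊔ (V ⊓ C) := by
        rw [Finset.iSup_insert, ← hV]
        apply le_antisymm
        · refine sup_le le_sup_left fun y hy => ?_
          by_cases hyU : y ∈ U a
          · exact Or.inl hyU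
          · exact Or.inr ⟨hy, fun hyT => hyU hyT.2⟩
        · exact sup_le le_sup_left (inf_le_left.trans le_sup_right)
      have h2 : U a ⊓ (V ⊓ C) ≤ D := by
        rintro y ⟨hy1, hy2, hy3⟩
        by_contra hyD
        exact hy3 ⟨hyD, hy1⟩
      rw [h1]
      refine HasFLift.sup _ (isAffineOpen_inf hdim _ _ (hUa a)) ?_ (hU a)
        (HasFLift.mono _ inf_le_left ih)
      rw [← Y.homOfLE_ι h2, Category.assoc]
      infer_instance
  obtain ⟨t, ht⟩ := CompactSpace.elim_nhds_subcover (fun x => (U x : Set Y))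
    fun x => (U x).2.mem_nhds (hxU x)
  have ht' : (⨆ x ∈ t, U x) = ⊤ := by
    rw [eq_top_iff]
    intro y _
    have hy : y ∈ ⋃ x ∈ t, (U x : Set Y) := by rw [ht]; trivial
    simpa using hy
  have h3 := key t
  rw [ht'] at h3
  have h4 := HasFLift.open _ h3 Y.topIso.inv
  have h5 : Y.topIso.inv ≫ (⊤ : Y.Opens).ι ≫ f = f := by
    rw [← Category.assoc, ← Scheme.topIso_hom, Iso.inv_hom_id, Category.id_comp]
  rwa [h5] at h4

end K185.CurveLift
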